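import Groth.Agent.TwistShriek.RGamma
import Groth.Agent.BrownRep.Coproduct

/-!
# Sections with supports along an open immersion commute with direct sums
-/

set_option autoImplicit false
set_option linter.style.haveILetI false
set_option backward.isDefEq.respectTransparency false
set_option maxHeartbeats 1000000

universe u v w

open CategoryTheory CategoryTheory.Limits AlgebraicGeometry CategoryTheory.Pretriangulated
open Groth.Agent.DCohLib Groth.Agent.DCohMore

attribute [local instance] HasDerivedCategory.standard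

noncomputable section

namespace Groth.Agent.RGammaSumLib

open Groth.Agent.TwistShriek

variable {U X : Scheme.{u}} (j : U ⟶ X) [IsOpenImmersion j] [CxOX.HasRgammaZ j]

omit [CxOX.HasRgammaZ j] in
/-- Restriction along an open immersion preserves K-injective complexes. -/
theorem isKInjective_restrict_imm (I : CochainComplex X.Modules ℤ) [I.IsKInjective] :
    CochainComplex.IsKInjective ((resCx j).obj I) := by
  let e := j.isoOpensRange
  let C := ComplexShape.up ℤ
  haveI := isKInjective_restrict j.opensRange I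
  let E := LocZLib.GammaQCoh.restrictEquivalence e
  haveI : E.symm.functor.PreservesMonomorphisms := inferInstance
  haveI : E.symm.inverse.Additive := by
    show (Scheme.Modules.restrictFunctor e.hom).Additive
    infer_instance
  haveI : CochainComplex.IsKInjective
      (((Scheme.Modules.restrictFunctor e.hom).mapHomologicalComplex C).obj ((resCx j.opensRange.ι).obj I)) :=
    Groth.Agent.KInj.isKInjective_map_of_adjunction E.symm.toAdjunction ((resCx j.opensRange.ι).obj I)
  let i := ((Scheme.Modules.restrictFunctorCongr j.isoOpensRange_hom_ι.symm) ≪≫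
    Scheme.Modules.restrictFunctorComp e.hom j.opensRange.ι)
  exact CochainComplex.isKInjective_of_iso (L₁ := ((Scheme.Modules.restrictFunctor e.hom).mapHomologicalComplex C).obj
    ((resCx j.opensRange.ι).obj I))
    ((HomologicalComplex.Hom.isoOfComponents (fun n => i.app (I.X n))
      (fun a b _ => (i.hom.naturality (I.d a b)).symm)).symm)

theorem gammaUnit_fac (I : CochainComplex X.Modules ℤ) :
    ((CxOX.gammaZKh j).totalRightDerivedUnit DerivedCategory.Qh
      (HomotopyCategory.quasiIso X.Modules (ComplexShape.up ℤ))).app ((quotM X).obj I) ≫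
      (CxOX.RgammaZToId j).app (DerivedCategory.Qh.obj ((quotM X).obj I)) =
    (CxOX.gammaZKhι j).app ((quotM X).obj I) := by
  rw [CxOX.RgammaZToId, Functor.rightDerived_fac_app]
  simp

/-- A complex model of `RΓ_Z(K) ⟶ K`. -/
theorem exists_rgammaZ_model (K : DCoh.D X) :
    ∃ (I : CochainComplex X.Modules ℤ) (_ : I.IsKInjective) (_ : ∀ n, Injective (I.X n))
      (e : K ≅ DerivedCategory.Q.obj I)
      (s : (CxOX.RgammaZ j).obj K ≅
        DerivedCategory.Q.obj (((DCoh.gammaZ j).mapHomologicalComplex (ComplexShape.up ℤ)).obj I)),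
      s.hom ≫ DerivedCategory.Q.map ((NatTrans.mapHomologicalComplex (CxOX.gammaZι j) (ComplexShape.up ℤ)).app I ≫
        (Functor.mapHomologicalComplexIdIso X.Modules (ComplexShape.up ℤ)).hom.app I) =
        (CxOX.RgammaZToId j).app K ≫ e.hom := by
  obtain ⟨I, hI, hI', ⟨e⟩⟩ := exists_injective_resolution X K
  haveI := hI
  let η := (CxOX.gammaZKh j).totalRightDerivedUnit DerivedCategory.Qh
    (HomotopyCategory.quasiIso X.Modules (ComplexShape.up ℤ))
  haveI : IsIso (η.app ((quotM X).obj I)) :=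
    Groth.Agent.KInj.isIso_app_of_isKInjective (hres_modules X) _ _ η I
  let q := (DerivedCategory.quotientCompQhIso X.Modules)
  let f := ((DCoh.gammaZ j).mapHomotopyCategoryFactors (ComplexShape.up ℤ)).app I
  let s : (CxOX.RgammaZ j).obj K ≅ _ := (CxOX.RgammaZ j).mapIso (e ≪≫ (q.app I).symm) ≪≫
    (asIso (η.app ((quotM X).obj I))).symm ≪≫ DerivedCategory.Qh.mapIso f ≪≫ q.app _
  refine ⟨I, hI, hI', e, s, ?_⟩
  have hn := (CxOX.RgammaZToId j).naturality (e ≪≫ (q.app I).symm).hom
  simp only [Functor.id_map] at hn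
  simp only [s, Iso.trans_hom, Functor.mapIso_hom, Iso.symm_hom, asIso_inv, Category.assoc]
  rw [← cancel_mono (q.inv.app I)]
  refine Eq.trans ?_ (hn.trans (by simp))
  simp only [Category.assoc]
  refine congrArg ((CxOX.RgammaZ j).map _ ≫ ·) ?_
  rw [IsIso.inv_comp_eq]
  refine Eq.trans ?_ (gammaUnit_fac j I).symm
  simp [CxOX.gammaZKhι, q, f]
  rfl

/-- The triangle `RΓ_Z(K) ⟶ K ⟶ Rj_*(K|_U)`. -/
theorem exists_rgammaZ_triangle [DCoh.HasRpush j] (K : DCoh.D X) :
    IsZero ((DCoh.restrictD j).obj ((CxOX.RgammaZ j).obj K)) ∧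
      ∃ (C : DCoh.D X) (g : K ⟶ C) (δ : C ⟶ ((CxOX.RgammaZ j).obj K)⟦(1 : ℤ)⟧),
        Triangle.mk ((CxOX.RgammaZToId j).app K) g δ ∈ distTriang _ ∧
        Nonempty (C ≅ (DCoh.Rpush j).obj ((DCoh.restrictD j).obj K)) := by
  obtain ⟨I, hI, hI', e, s, hs⟩ := exists_rgammaZ_model j K
  let C := ComplexShape.up ℤ
  let P := (LocZLib.GammaQCoh.out j).mapHomologicalComplex C
  let a := (NatTrans.mapHomologicalComplex (CxOX.gammaZι j) C).app I ≫
    (Functor.mapHomologicalComplexIdIso X.Modules C).hom.app I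
  let b : I ⟶ P.obj I := (Functor.mapHomologicalComplexIdIso X.Modules C).inv.app I ≫
    (NatTrans.mapHomologicalComplex (LocZLib.GammaQCoh.outUnit j) C).app I
  have hab : a ≫ b = 0 := by
    refine HomologicalComplex.hom_ext _ _ fun n => ?_
    simp [a, b]
    exact LocZLib.GammaQCoh.ι_unit j (I.X n)
  let S := ShortComplex.mk a b hab
  have hS : S.ShortExact := HomologicalComplex.shortExact_of_degreewise_shortExact _ fun n => by
    refine ShortComplex.shortExact_of_iso ?_ (LocZLib.GammaQCoh.shortExact_injective j (I.X n) (hI' n))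
    exact ShortComplex.isoMk (Iso.refl _) (Iso.refl _) (Iso.refl _) (by simp [S, a]; exact Category.comp_id _) (by simp [S, b])
  let T := DerivedCategory.triangleOfSES hS
  have hT : T ∈ distTriang _ := DerivedCategory.triangleOfSES_distinguished hS
  haveI := isKInjective_restrict_imm j I
  let e₃ : T.obj₃ ≅ (DCoh.Rpush j).obj ((DCoh.restrictD j).obj (DerivedCategory.Q.obj I)) :=
    DerivedCategory.Q.mapIso (HomologicalComplex.Hom.isoOfComponents (fun n => Iso.refl _) (fun _ _ _ =>
      (Category.id_comp _).trans (Category.comp_id _).symm) :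
      P.obj I ≅ ((Scheme.Modules.pushforward j).mapHomologicalComplex C).obj ((resCx j).obj I)) ≪≫
    rpushInjIso j ((resCx j).obj I) ≪≫ (DCoh.Rpush j).mapIso (restrictDQ j I).symm
  refine ⟨?_, ?_⟩
  · refine IsZero.of_iso ?_ ((DCoh.restrictD j).mapIso s ≪≫ restrictDQ j _)
    refine DerivedCategory.Q.map_isZero ?_
    rw [IsZero.iff_id_eq_zero]
    refine HomologicalComplex.hom_ext _ _ fun n => ?_
    refine IsZero.eq_of_src ?_ _ _
    let η := LocZLib.GammaQCoh.outUnit j
    have h0 : (Scheme.Modules.restrictFunctor j).map ((CxOX.gammaZι j).app (I.X n)) = 0 := by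
      haveI : IsIso ((Scheme.Modules.restrictFunctor j).map (η.app (I.X n))) := by
        haveI : IsIso ((Scheme.Modules.restrictFunctor j).map (η.app (I.X n)) ≫
            (Scheme.Modules.restrictAdjunction j).counit.app _) := by
          erw [(Scheme.Modules.restrictAdjunction j).left_triangle_components]; exact IsIso.id _
        exact IsIso.of_isIso_comp_right _ ((Scheme.Modules.restrictAdjunction j).counit.app _)
      rw [← cancel_mono ((Scheme.Modules.restrictFunctor j).map (η.app (I.X n))), ← Functor.map_comp,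
        LocZLib.GammaQCoh.ι_unit, Functor.map_zero, zero_comp]
    exact IsZero.of_mono_eq_zero _ h0
  · have hs' : (CxOX.RgammaZToId j).app K = s.hom ≫ T.mor₁ ≫ e.inv := by
      rw [← cancel_mono e.hom, Category.assoc, Category.assoc, e.inv_hom_id]
      erw [Category.comp_id]
      exact hs.symm
    refine ⟨T.obj₃, e.hom ≫ T.mor₂, T.mor₃ ≫ s.inv⟦(1 : ℤ)⟧', ?_, ⟨e₃ ≪≫ (DCoh.Rpush j).mapIso ((DCoh.restrictD j).mapIso e.symm)⟩⟩
    refine isomorphic_distinguished _ hT _ (Triangle.isoMk _ _ s e (Iso.refl _) ?_ ?_ ?_)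
    · show (CxOX.RgammaZToId j).app K ≫ e.hom = s.hom ≫ T.mor₁
      rw [hs', Category.assoc, Category.assoc, e.inv_hom_id]
      erw [Category.comp_id]
    · show (e.hom ≫ T.mor₂) ≫ 𝟙 _ = e.hom ≫ T.mor₂
      exact Category.comp_id _
    · show (T.mor₃ ≫ s.inv⟦(1 : ℤ)⟧') ≫ s.hom⟦(1 : ℤ)⟧' = 𝟙 _ ≫ T.mor₃
      rw [Category.assoc, ← Functor.map_comp, s.inv_hom_id]
      erw [CategoryTheory.Functor.map_id, Category.comp_id, Category.id_comp]

omit [CxOX.HasRgammaZ j] in
/-- A morphism with cone a direct image from the open is universal for maps from supported objects. -/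
theorem bijective_comp_of_cone [DCoh.HasRpush j] {P L C : DCoh.D X} (t : P ⟶ L) (g : L ⟶ C) (δ : C ⟶ P⟦(1 : ℤ)⟧)
    (hT : Triangle.mk t g δ ∈ distTriang _) (N : DCoh.D U) (eC : C ≅ (DCoh.Rpush j).obj N)
    (F : DCoh.D X) (hF : IsZero ((DCoh.restrictD j).obj F)) :
    Function.Bijective fun φ : F ⟶ P => φ ≫ t := by
  haveI : DCoh.HasLpull j := DCohLib.hasLpull _
  have hz : ∀ F : DCoh.D X, IsZero ((DCoh.restrictD j).obj F) → ∀ φ : F ⟶ C, φ = 0 := fun F hF φ => by
    rw [← cancel_mono eC.hom, zero_comp]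
    exact ((restrictAdj j).homEquiv F _).symm.injective (hF.eq_of_src _ _)
  exact bijective_comp_mor₁ _ hT F (hz F hF) (hz _ (((shiftFunctor _ (1 : ℤ)).map_isZero hF).of_iso
      (((DCoh.restrictD j).commShiftIso (1 : ℤ)).app F)))

/-- Sections with supports commute with direct sums of objects with quasi-coherent cohomology. -/
theorem isIso_desc_rgammaZ [QuasiCompact j] {ι : Type u} (E : ι → DCoh.D X) (hE : ∀ i, DCoh.IsQCohD (E i))
    [HasCoproduct E] [HasCoproduct fun i => (CxOX.RgammaZ j).obj (E i)] :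
    IsIso (Sigma.desc fun i => (CxOX.RgammaZ j).map (Sigma.ι E i)) := by
  haveI : DCoh.HasRpush j := BC.hasRpush _
  haveI : DCoh.HasLpull j := DCohLib.hasLpull _
  choose h₀ C g δ hT eC using fun i => exists_rgammaZ_triangle j (E i)
  let T : ι → Triangle (DCoh.D X) := fun i => Triangle.mk ((CxOX.RgammaZToId j).app (E i)) (g i) (δ i)
  haveI : HasCoproduct C := hasCoproduct_D' C
  haveI : HasCoproduct fun i => (T i).obj₁ := ‹HasCoproduct fun i => (CxOX.RgammaZ j).obj (E i)›
  haveI : HasCoproduct fun i => (T i).obj₂ := ‹HasCoproduct E›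
  haveI : HasCoproduct fun i => (T i).obj₃ := ‹HasCoproduct C›
  have hS := BrownRep.coproductTriangle_distinguished T hT
  let K : ι → DCoh.D U := fun i => (DCoh.restrictD j).obj (E i)
  have hK : ∀ i, DCoh.IsQCohD (K i) := fun i => TildeD.isQCohD_restrict j _ (hE i)
  haveI := hasCoproduct_D' K
  haveI := hasCoproduct_D' fun i => (DCoh.Rpush j).obj (K i)
  haveI := isIso_sigmaComparison_rpush j K hK
  let e₃ : (∐ C) ≅ (DCoh.Rpush j).obj (∐ K) :=
    Limits.Sigma.mapIso (fun i => (eC i).some) ≪≫ asIso (sigmaComparison (DCoh.Rpush j) K)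
  have hsum : IsZero ((DCoh.restrictD j).obj (∐ fun i => (CxOX.RgammaZ j).obj (E i))) := by
    rw [IsZero.iff_id_eq_zero]
    apply ((restrictAdj j).homEquiv _ _).injective
    refine Sigma.hom_ext _ _ fun i => ?_
    apply ((restrictAdj j).homEquiv _ _).symm.injective
    exact (h₀ i).eq_of_src _ _
  have hbS := bijective_comp_of_cone j _ _ _ hS (∐ K) e₃
  obtain ⟨h₁, C', g', δ', hT', ⟨eC'⟩⟩ := exists_rgammaZ_triangle j (∐ E)
  have hbP := bijective_comp_of_cone j _ _ _ hT' _ eC'
  let φ := Sigma.desc fun i => (CxOX.RgammaZ j).map (Sigma.ι E i)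
  have hφ : φ ≫ (CxOX.RgammaZToId j).app (∐ E) =
      Limits.Sigma.map fun i => (CxOX.RgammaZToId j).app (E i) := by
    refine Sigma.hom_ext _ _ fun i => ?_
    rw [Sigma.ι_desc_assoc, Sigma.ι_map]
    exact (CxOX.RgammaZToId j).naturality (Sigma.ι E i)
  obtain ⟨β, hβ⟩ := (hbS _ h₁).2 ((CxOX.RgammaZToId j).app (∐ E))
  refine ⟨β, ?_, ?_⟩
  · apply (hbS _ hsum).1
    show (φ ≫ β) ≫ _ = 𝟙 _ ≫ _
    rw [Category.assoc, Category.id_comp]
    exact (congrArg (φ ≫ ·) hβ).trans hφ
  · apply (hbP _ h₁).1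
    show (β ≫ φ) ≫ _ = 𝟙 _ ≫ _
    rw [Category.assoc, Category.id_comp, hφ]
    exact hβ

end Groth.Agent.RGammaSumLib
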